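import Groth.Prelude.Def_CurvBase
import Groth.Agent.Lib.GeomRed18.Common
import Mathlib

/-!
# Nodes are reduced points
-/

set_option autoImplicit false
set_option linter.style.haveILetI false
set_option backward.isDefEq.respectTransparency.types false
universe u

open AlgebraicGeometry CategoryTheory CategoryTheory.Limits MvPowerSeries

namespace Groth.Agent.NodeRed19

theorem prime_X {σ : Type*} (s : σ) (R : Type*) [CommRing R] [IsDomain R] : Prime (X s : MvPowerSeries σ R) := by
  classical
  let e : {t // t ≠ s} ↪ σ := ⟨Subtype.val, Subtype.val_injective⟩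
  have key : ∀ φ : MvPowerSeries σ R, killCompl e φ = 0 ↔ X s ∣ φ := by
    intro φ
    rw [X_dvd_iff]
    constructor
    · intro h m hm
      have h2 : Finsupp.embDomain e (Finsupp.comapDomain e m e.injective.injOn) = m :=
        Finsupp.ext fun t => by
          by_cases ht : t = s
          · subst ht
            rw [hm, Finsupp.embDomain_of_notMem_range]
            rintro ⟨⟨t, hts⟩, h3⟩; exact hts h3
          · exact (Finsupp.embDomain_apply_self e _ ⟨t, ht⟩).trans (Finsupp.comapDomain_apply _ _ _ _)
      rw [← h2, ← coeff_killCompl, h, map_zero]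
    · intro h
      ext m
      rw [coeff_killCompl, map_zero]
      refine h _ ?_
      rw [Finsupp.embDomain_of_notMem_range]
      rintro ⟨⟨t, hts⟩, h3⟩; exact hts h3
  refine ⟨fun h => ?_, fun h => ?_, fun a b hab => ?_⟩
  · have := congrArg (coeff (Finsupp.single s 1)) h
    simp at this
  · have h1 := h.map (constantCoeff (σ := σ) (R := R))
    simp at h1
  · rw [← key] at hab ⊢
    rw [← key]
    rwa [map_mul, mul_eq_zero] at hab

theorem isReduced_node_ring (K : Type u) [Field K] :
    _root_.IsReduced (MvPowerSeries (Fin 2) K ⧸ Ideal.span {(X 0 * X 1 : MvPowerSeries (Fin 2) K)}) := by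
  rw [← Ideal.isRadical_iff_quotient_reduced]
  rintro f ⟨n, hn⟩
  rw [Ideal.mem_span_singleton] at hn ⊢
  obtain ⟨g, rfl⟩ := (prime_X 0 K).dvd_of_dvd_pow ((dvd_mul_right _ _).trans hn)
  rcases (prime_X 1 K).dvd_or_dvd ((prime_X 1 K).dvd_of_dvd_pow ((dvd_mul_left _ _).trans hn)) with h | h
  · exact absurd ((X_dvd_iff).1 h (Finsupp.single 0 1) (by simp)) (by simp)
  · exact mul_dvd_mul_left _ h

/-- The local ring at a node is reduced. -/
theorem isReduced_stalk_of_isNode {k : Type u} [Field k] {X : Scheme.{u}} [X.Over (Spec (CommRingCat.of k))]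
    [LocallyOfFiniteType (X ↘ Spec (CommRingCat.of k))] (x : X) (h : Curv2.IsNode k X x) :
    _root_.IsReduced (X.presheaf.stalk x) := by
  obtain ⟨-, xb, rfl, e, -⟩ := h
  let K := AlgebraicClosure k
  haveI : Flat (Spec.map (CommRingCat.ofHom (algebraMap k K))) :=
    (HasRingHomProperty.Spec_iff (P := @Flat)).2 (RingHom.flat_algebraMap_iff.2 inferInstance)
  haveI : Flat (Curv2.bcFst k X K) := inferInstanceAs (Flat (pullback.fst _ _))
  haveI : LocallyOfFiniteType (Curv2.bcSnd k X K) := inferInstanceAs (LocallyOfFiniteType (pullback.snd _ _))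
  haveI : IsLocallyNoetherian (Curv2.bc k X K) := LocallyOfFiniteType.isLocallyNoetherian (Curv2.bcSnd k X K)
  let L := (Curv2.bc k X K).presheaf.stalk xb
  haveI := isReduced_node_ring K
  haveI : _root_.IsReduced (AdicCompletion (IsLocalRing.maximalIdeal L) L) :=
    isReduced_of_injective e e.injective
  haveI : IsHausdorff (IsLocalRing.maximalIdeal L) L := inferInstance
  haveI : _root_.IsReduced L := isReduced_of_injective (algebraMap L (AdicCompletion (IsLocalRing.maximalIdeal L) L))
    (fun a b hab => AdicCompletion.of_injective (IsLocalRing.maximalIdeal L) L hab)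
  exact isReduced_of_injective _ (GeomRed.stalkMap_injective (Curv2.bcFst k X K) xb)

end Groth.Agent.NodeRed19
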